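import Groth.Agent.Lefpen.H710.Growth

/-!
# Betti numbers from the orders of `H^r(X, ℤ/ℓ^ν)`
-/

set_option autoImplicit false
universe u

open CategoryTheory CategoryTheory.Limits AlgebraicGeometry Opposite

namespace K98.BettiCard

open Groth.Agent.Lefpen.H710

variable (X : Scheme.{u}) (ℓ : ℕ) [hℓ : Fact ℓ.Prime]

/-- If `#H^r(X, ℤ/ℓ^(ν+1)) = ℓ^c · #H^r(X, ℤ/ℓ^ν)` for large `ν`, the `r`-th Betti number is `c`. -/
theorem betti_eq_of_succ (hfin : ∀ i, Finite (EtAdic.Hmod X ℓ i 1)) (r c B : ℕ)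
    (h : ∀ ν, B ≤ ν → Nat.card (EtAdic.Hmod X ℓ r (ν + 1)) = ℓ ^ c * Nat.card (EtAdic.Hmod X ℓ r ν)) :
    EtAdic.betti X ℓ r = c := by
  obtain ⟨C, hC⟩ := Growth.card_succ X ℓ hfin r
  have h1 := (hC (max B C) (le_max_right _ _)).symm.trans (h (max B C) (le_max_left _ _))
  have := Growth.finite_Hmod X ℓ hfin r (max B C)
  exact Nat.pow_right_injective hℓ.out.one_lt (Nat.eq_of_mul_eq_mul_right Nat.card_pos h1)

/-- If `#H^r(X, ℤ/ℓ^ν) = (ℓ^ν)^(c r)` for all `r`, `ν`, the Betti numbers are the `c r`. -/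
theorem betti_eq (c : ℕ → ℕ)
    (h : ∀ ν r, Nat.card (EtCoh.H X (EtCoh.const X (ZMod (ℓ ^ ν))) r) = (ℓ ^ ν) ^ c r) (r : ℕ) :
    EtAdic.betti X ℓ r = c r := by
  have hfin : ∀ i, Finite (EtAdic.Hmod X ℓ i 1) := fun i => by
    refine Nat.finite_of_card_ne_zero ?_
    change Nat.card (EtCoh.H X (EtCoh.const X (ZMod (ℓ ^ 1))) i) ≠ 0
    rw [h 1 i]
    exact pow_ne_zero _ (pow_ne_zero _ hℓ.out.ne_zero)
  refine betti_eq_of_succ X ℓ hfin r (c r) 0 fun ν _ => ?_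
  change Nat.card (EtCoh.H X (EtCoh.const X (ZMod (ℓ ^ (ν + 1)))) r) =
    ℓ ^ c r * Nat.card (EtCoh.H X (EtCoh.const X (ZMod (ℓ ^ ν))) r)
  rw [h, h, pow_succ, mul_pow, mul_comm]

end K98.BettiCard
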