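import Groth.Agent.EtAdic.K98.GmH1
import Groth.Agent.EtAdic.K98.BettiCard
import Groth.Agent.Etrest.HConstIso
import Groth.Agent.Sga3B.DSAff
import Groth.Agent.S0073
import Mathlib.Algebra.Polynomial.Laurent

/-!
# `#H^r(𝔾_m^b, L) = (#L)^(b choose r)` over an algebraically closed field
-/

set_option autoImplicit false
universe u

open CategoryTheory CategoryTheory.Limits AlgebraicGeometry Opposite
open MonoidalCategory CartesianMonoidalCategory

namespace K98.GmPow

open Groth.Agent Groth.Agent.Sga4B K98.GmH1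

theorem isGmLike_of_iso {m : ℕ} {T T' : Scheme.{u}} (h : IsGmLike m T) (e : T ≅ T') : IsGmLike m T' where
  conn := by
    have := h.conn
    exact (Scheme.homeoOfIso e).surjective.connectedSpace (Scheme.homeoOfIso e).continuous
  one M _ _ hM := by
    obtain ⟨f⟩ := Etrest.HConstIso.nonempty_HConst e M 1
    rw [Nat.card_congr f.toEquiv]
    exact h.one M hM
  two M _ _ hM q hq := by
    obtain ⟨f⟩ := Etrest.HConstIso.nonempty_HConst e M q
    have := h.two M hM q hq
    exact f.injective.subsingleton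

theorem isAffineHom_gm (S : Scheme.{u}) : IsAffineHom (Red.Gm S).hom := by
  have h1 : IsAffineHom (Red.diag (ULift.{u} ℤ) ℤ).hom :=
    inferInstanceAs (IsAffineHom (Spec.map (CommRingCat.ofHom
      (algebraMap (ULift.{u} ℤ) (MonoidAlgebra (ULift.{u} ℤ) (Multiplicative ℤ))))))
  exact MorphismProperty.pullback_snd _ _ h1

theorem locallyOfFiniteType_gm (S : Scheme.{u}) : LocallyOfFiniteType (Red.Gm S).hom := by
  have h1 : LocallyOfFiniteType (Red.diag (ULift.{u} ℤ) ℤ).hom := by
    change LocallyOfFiniteType (Spec.map (CommRingCat.ofHom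
      (algebraMap (ULift.{u} ℤ) (MonoidAlgebra (ULift.{u} ℤ) (Multiplicative ℤ)))))
    rw [HasRingHomProperty.Spec_iff (P := @LocallyOfFiniteType)]
    have h2 : Algebra.FiniteType (ULift.{u} ℤ) (MonoidAlgebra (ULift.{u} ℤ) (Multiplicative ℤ)) :=
      inferInstance
    exact RingHom.finiteType_algebraMap.2 h2
  exact MorphismProperty.pullback_snd _ _ h1

variable {k : Type u} [Field k] [IsAlgClosed k] {m : ℕ} (hm : (m : k) ≠ 0)

include hm in
theorem isGmLike_Gm : IsGmLike m (Red.Gm (Spec (CommRingCat.of k))).left := by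
  let e1 : MonoidAlgebra k (Multiplicative ℤ) ≃+* LaurentPolynomial k :=
    MonoidAlgebra.toAdditive k (Multiplicative ℤ)
  have h1 : IsGmLike m (Spec (CommRingCat.of (LaurentPolynomial k))) :=
    isGmLike_spec k (LaurentPolynomial k) m hm
  let e2 : Spec (CommRingCat.of (LaurentPolynomial k)) ≅ Spec (CommRingCat.of (MonoidAlgebra k (Multiplicative ℤ))) :=
    Scheme.Spec.mapIso e1.toCommRingCatIso.op
  let e3 : Red.DS (Spec (CommRingCat.of k)) ℤ ≅ _ := asIso (Sga3B.DSAff.dsTo k ℤ)
  exact isGmLike_of_iso h1 (e2 ≪≫ ((Over.forget _).mapIso e3).symm)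

section prod

variable (F T : Over (Spec (CommRingCat.of k))) [LocallyOfFiniteType F.hom] [QuasiCompact F.hom]
  (L : Type) [AddCommGroup L] [Finite L] (hL : ∀ x : L, m • x = 0)

omit [IsAlgClosed k] [LocallyOfFiniteType F.hom] [QuasiCompact F.hom] in
theorem isPullback_tensor : IsPullback (fst F T).left (snd F T).left F.hom T.hom :=
  IsPullback.of_hasPullback F.hom T.hom

include hm hL in
theorem card_tensor_succ (hT : IsGmLike m T.left) (n : ℕ) :
    Nat.card (EtCoh.H (F ⊗ T).left (EtCoh.const (F ⊗ T).left L) (n + 1)) =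
      Nat.card (EtCoh.H F.left (EtCoh.const F.left L) n) *
        Nat.card (EtCoh.H F.left (EtCoh.const F.left L) (n + 1)) :=
  card_succ hm F.hom (isPullback_tensor F T) hT L hL n

include hm hL in
theorem card_tensor_zero (hT : IsGmLike m T.left) :
    Nat.card (EtCoh.H (F ⊗ T).left (EtCoh.const (F ⊗ T).left L) 0) =
      Nat.card (EtCoh.H F.left (EtCoh.const F.left L) 0) :=
  card_zero hm F.hom (isPullback_tensor F T) hT L hL

end prod

theorem card_unit (L : Type) [AddCommGroup L] [Finite L] (r : ℕ) :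
    Nat.card (EtCoh.H (Spec (CommRingCat.of k)) (EtCoh.const (Spec (CommRingCat.of k)) L) r) =
      Nat.card L ^ Nat.choose 0 r := by
  cases r with
  | zero => rw [Sga5.H650.ConstCount.card_H0_const, Nat.choose_zero_right, pow_one]
  | succ r =>
    obtain ⟨h1, h2⟩ := Sga7.H274.FieldPts.isStrictlyHenselianLocalRing_field k
    have := S0073.result k (EtCoh.const (Spec (CommRingCat.of k)) L) (r + 1) (Nat.succ_le_succ (Nat.zero_le r))
    rw [Nat.choose_zero_succ, pow_zero]
    exact Nat.card_unique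

section pow

variable (T : ℕ → Over (Spec (CommRingCat.of k))) (e0 : T 0 ≅ 𝟙_ _)
  (e : ∀ b, T (b + 1) ≅ T b ⊗ Red.Gm (Spec (CommRingCat.of k)))

omit [IsAlgClosed k] in
include e0 e in
theorem locallyOfFiniteType_T (b : ℕ) : LocallyOfFiniteType (T b).hom ∧ QuasiCompact (T b).hom := by
  induction b with
  | zero =>
    rw [← Over.w e0.hom]
    have : IsIso e0.hom.left := inferInstanceAs (IsIso ((Over.forget _).map e0.hom))
    have h1 : (𝟙_ (Over (Spec (CommRingCat.of k)))).hom = 𝟙 _ := rfl
    rw [h1, Category.comp_id]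
    exact ⟨inferInstance, inferInstance⟩
  | succ b ih =>
    obtain ⟨h1, h2⟩ := ih
    rw [← Over.w (e b).hom]
    have : IsIso (e b).hom.left := inferInstanceAs (IsIso ((Over.forget _).map (e b).hom))
    have h3 : (T b ⊗ Red.Gm (Spec (CommRingCat.of k))).hom =
        pullback.fst (T b).hom (Red.Gm (Spec (CommRingCat.of k))).hom ≫ (T b).hom := rfl
    have h4 := locallyOfFiniteType_gm (Spec (CommRingCat.of k))
    have h6 := isAffineHom_gm (Spec (CommRingCat.of k))
    rw [h3]
    exact ⟨inferInstance, inferInstance⟩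

include hm e0 e in
/-- **(P6)** -/
theorem card_pow (L : Type) [AddCommGroup L] [Finite L] (hL : ∀ x : L, m • x = 0) (b r : ℕ) :
    Nat.card (EtCoh.H (T b).left (EtCoh.const (T b).left L) r) = Nat.card L ^ Nat.choose b r := by
  induction b generalizing r with
  | zero =>
    obtain ⟨f⟩ := Etrest.HConstIso.nonempty_HConst ((Over.forget _).mapIso e0) L r
    exact (Nat.card_congr f.toEquiv).symm.trans (card_unit L r)
  | succ b ih =>
    obtain ⟨h1, h2⟩ := locallyOfFiniteType_T T e0 e b
    obtain ⟨f⟩ := Etrest.HConstIso.nonempty_HConst ((Over.forget _).mapIso (e b)) L r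
    refine (Nat.card_congr f.toEquiv).symm.trans ?_
    cases r with
    | zero =>
      refine (card_tensor_zero hm (T b) _ L hL (isGmLike_Gm hm)).trans ?_
      rw [ih, Nat.choose_zero_right, Nat.choose_zero_right]
    | succ r =>
      refine (card_tensor_succ hm (T b) _ L hL (isGmLike_Gm hm) r).trans ?_
      rw [ih, ih, ← pow_add, Nat.choose_succ_succ]

include e0 e in
/-- Betti numbers of `𝔾_m^b`. -/
theorem betti_pow (ℓ : ℕ) [Fact ℓ.Prime] (hℓ : (ℓ : k) ≠ 0) (b r : ℕ) :
    EtAdic.betti (T b).left ℓ r = Nat.choose b r := by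
  refine BettiCard.betti_eq (T b).left ℓ (Nat.choose b) (fun ν r => ?_) r
  have : NeZero (ℓ ^ ν) := ⟨pow_ne_zero _ (Fact.out : ℓ.Prime).ne_zero⟩
  have hν : ((ℓ ^ ν : ℕ) : k) ≠ 0 := by
    rw [Nat.cast_pow]
    exact pow_ne_zero _ hℓ
  rw [card_pow hν T e0 e (ZMod (ℓ ^ ν)) (fun x => by
    rw [nsmul_eq_mul, ZMod.natCast_self, zero_mul]) b r, Nat.card_zmod]

end pow

end K98.GmPow
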