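import Groth.Agent.EtAdic.K98.GmPow
import Groth.Agent.Sga3B.DSPts

/-!
# `#H^r(D_k(ℤ^b), L) = (#L)^(b choose r)`

`isIso_lift`: `D(M) ≅ D(A) × D(B)` if `A × B ≅ M`.
-/

set_option autoImplicit false
universe u

open CategoryTheory CategoryTheory.Limits AlgebraicGeometry Opposite
open MonoidalCategory CartesianMonoidalCategory

namespace K98.GmPow2

open Groth.Agent Groth.Agent.Sga3B.DSPts

section ds

variable (S : Scheme.{u}) {A B M : Type} [AddCommGroup A] [AddCommGroup B] [AddCommGroup M]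
  (e : A × B ≃+ M)

/-- the comparison -/
noncomputable def toProd : Red.DS S M ⟶ Red.DS S A ⊗ Red.DS S B :=
  lift (Red.DSmap S ((e : A × B →+ M).comp (AddMonoidHom.inl A B)))
    (Red.DSmap S ((e : A × B →+ M).comp (AddMonoidHom.inr A B)))

theorem isIso_toProd : IsIso (toProd S e) := by
  refine isIso_of_yoneda_map_bijective _ fun T => ⟨fun x y h => ?_, fun y => ?_⟩
  · have h1 : x ≫ toProd S e = y ≫ toProd S e := h
    have ha := congrArg (fun t => dsChar (t ≫ fst _ _)) h1
    have hb := congrArg (fun t => dsChar (t ≫ snd _ _)) h1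
    simp only [toProd, Category.assoc, lift_fst, lift_snd, dsChar_DSmap] at ha hb
    rw [← dsEquiv_dsChar x, ← dsEquiv_dsChar y]
    congr 1
    refine MonoidHom.ext fun m => ?_
    obtain ⟨⟨a, b⟩, hab⟩ := e.surjective (Multiplicative.toAdd m)
    have hm : m = Multiplicative.ofAdd (e (a, 0)) * Multiplicative.ofAdd (e (0, b)) := by
      rw [← ofAdd_add, ← map_add, Prod.mk_add_mk, add_zero, zero_add, hab]
      rfl
    have h2 := DFunLike.congr_fun ha (Multiplicative.ofAdd a)
    have h3 := DFunLike.congr_fun hb (Multiplicative.ofAdd b)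
    rw [hm, map_mul, map_mul]
    exact congrArg₂ (· * ·) h2 h3
  · let χa := dsChar (y ≫ fst _ _)
    let χb := dsChar (y ≫ snd _ _)
    let p1 : Multiplicative M →* Multiplicative A :=
      AddMonoidHom.toMultiplicative ((AddMonoidHom.fst A B).comp (e.symm : M →+ A × B))
    let p2 : Multiplicative M →* Multiplicative B :=
      AddMonoidHom.toMultiplicative ((AddMonoidHom.snd A B).comp (e.symm : M →+ A × B))
    let χ : Multiplicative M →* Γ(T.left, ⊤) := (χa.comp p1) * (χb.comp p2)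
    refine ⟨dsEquiv T M χ, ?_⟩
    change dsEquiv T M χ ≫ toProd S e = y
    apply CartesianMonoidalCategory.hom_ext
    · rw [Category.assoc, toProd, lift_fst, dsEquiv_DSmap, ← dsEquiv_dsChar (y ≫ fst _ _)]
      congr 1
      refine MonoidHom.ext fun a => ?_
      have h1 : e.symm (e (Multiplicative.toAdd a, (0 : B))) = (Multiplicative.toAdd a, 0) := e.symm_apply_apply _
      change χa (Multiplicative.ofAdd (e.symm (e (Multiplicative.toAdd a, (0 : B)))).1) *
        χb (Multiplicative.ofAdd (e.symm (e (Multiplicative.toAdd a, (0 : B)))).2) = χa a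
      rw [h1]
      change χa a * χb 1 = χa a
      rw [map_one, mul_one]
    · rw [Category.assoc, toProd, lift_snd, dsEquiv_DSmap, ← dsEquiv_dsChar (y ≫ snd _ _)]
      congr 1
      refine MonoidHom.ext fun b => ?_
      have h1 : e.symm (e ((0 : A), Multiplicative.toAdd b)) = (0, Multiplicative.toAdd b) := e.symm_apply_apply _
      change χa (Multiplicative.ofAdd (e.symm (e ((0 : A), Multiplicative.toAdd b))).1) *
        χb (Multiplicative.ofAdd (e.symm (e ((0 : A), Multiplicative.toAdd b))).2) = χb b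
      rw [h1]
      change χa 1 * χb b = χb b
      rw [map_one, one_mul]

/-- `D(M) ≅ D(A) × D(B)` -/
noncomputable def isoProd : Red.DS S M ≅ Red.DS S A ⊗ Red.DS S B :=
  @asIso _ _ _ _ (toProd S e) (isIso_toProd S e)

/-- `D(0) ≅ S` -/
noncomputable def isoUnit (M : Type) [AddCommGroup M] [Subsingleton M] : Red.DS S M ≅ 𝟙_ (Over S) where
  hom := toUnit _
  inv := dsEquiv (𝟙_ (Over S)) M 1
  hom_inv_id := by
    rw [← dsEquiv_dsChar (toUnit (Red.DS S M) ≫ dsEquiv (𝟙_ (Over S)) M 1), ← dsEquiv_dsChar (𝟙 (Red.DS S M))]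
    congr 1
    refine MonoidHom.ext fun m => ?_
    have hm : m = 1 := Subsingleton.elim (α := M) _ _
    rw [hm, map_one, map_one]
  inv_hom_id := toUnit_unique _ _

end ds

/-- `ℤ^b × ℤ ≅ ℤ^(b+1)` -/
def sumEquiv (b : ℕ) : (Fin b → ℤ) × ℤ ≃+ (Fin (b + 1) → ℤ) where
  toFun x := Fin.snoc x.1 x.2
  invFun y := (fun i => y i.castSucc, y (Fin.last b))
  left_inv x := by simp
  right_inv y := by
    funext i
    refine Fin.lastCases ?_ (fun i => ?_) i <;> simp
  map_add' x y := by
    funext i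
    refine Fin.lastCases ?_ (fun i => ?_) i <;> simp

variable {k : Type u} [Field k] [IsAlgClosed k] {m : ℕ}

/-- **(P6)** for `D_k(ℤ^b)`. -/
theorem card_DS (hm : (m : k) ≠ 0) (L : Type) [AddCommGroup L] [Finite L] (hL : ∀ x : L, m • x = 0) (b r : ℕ) :
    Nat.card (EtCoh.H (Red.DS (Spec (CommRingCat.of k)) (Fin b → ℤ)).left (EtCoh.const _ L) r) =
      Nat.card L ^ Nat.choose b r :=
  GmPow.card_pow hm (fun b => Red.DS (Spec (CommRingCat.of k)) (Fin b → ℤ)) (isoUnit _ (Fin 0 → ℤ))
    (fun b => isoProd _ (sumEquiv b)) L hL b r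

theorem betti_DS (ℓ : ℕ) [Fact ℓ.Prime] (hℓ : (ℓ : k) ≠ 0) (b r : ℕ) :
    EtAdic.betti (Red.DS (Spec (CommRingCat.of k)) (Fin b → ℤ)).left ℓ r = Nat.choose b r :=
  GmPow.betti_pow (fun b => Red.DS (Spec (CommRingCat.of k)) (Fin b → ℤ)) (isoUnit _ (Fin 0 → ℤ))
    (fun b => isoProd _ (sumEquiv b)) ℓ hℓ b r

end K98.GmPow2
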