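import Groth.Agent.EtAdic.K98.Kill
import Groth.Agent.EtAdic.K833.EffProd
import Groth.Agent.EtAdic.K833.EffFib
import Groth.Agent.EtAdic.K833.EffUnit
import Groth.Agent.EtAdic.K833.FieldRpush

/-!
# Powers of `m` kill the positive cohomology of a connected group

`k` algebraically closed, `m` invertible in `k`, `G` a smooth connected quasi-compact group scheme over `k`, `M` a finite
group killed by `m`: for every `r ≥ 1` some `[m^N] : G → G` induces `0` on `H^r(G, M)`.
-/

set_option autoImplicit false
universe u

open CategoryTheory Limits MonoidalCategory CartesianMonoidalCategory MonObj GrpObj AlgebraicGeometry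
open scoped Groth.Agent.Etcore.EtInst

namespace K98.KillMain

open Groth.Agent Groth.Agent.Etcore.EtInst Groth.Agent.Etcore.HpullCalc Groth.Agent.Etcore.HC K98.Kill

variable {k : Type u} [Field k]

theorem isPullback_tensor (A B : Over (Spec (CommRingCat.of k))) :
    IsPullback (snd A B).left (fst A B).left B.hom A.hom :=
  (IsPullback.of_hasPullback A.hom B.hom).flip

section tower

variable (G : Over (Spec (CommRingCat.of k))) [GrpObj G] (m : ℕ)

/-- the transition maps `1 × [m^(j-i)]` -/
noncomputable abbrev tr (i j : ℕ) : (G ⊗ G) ⟶ (G ⊗ G) := G ◁ pw G (m ^ (j - i))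

theorem tr_fst (i j : ℕ) : (tr G m i j).left ≫ (fst G G).left = (fst G G).left := by
  rw [← Over.comp_left, whiskerLeft_fst]

theorem tr_snd (i j : ℕ) : (tr G m i j).left ≫ (snd G G).left = (snd G G).left ≫ (pw G (m ^ (j - i))).left := by
  rw [← Over.comp_left, whiskerLeft_snd, Over.comp_left]

theorem tr_tr (i j l : ℕ) (h : i ≤ j) (h' : j ≤ l) :
    (tr G m j l).left ≫ (tr G m i j).left = (tr G m i l).left := by
  have h1 : l - i = (l - j) + (j - i) := by omega
  rw [← Over.comp_left, ← whiskerLeft_comp, comp_pw, pw, ← pow_mul, ← pow_add, tr, h1]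

end tower

variable [IsAlgClosed k] {m : ℕ} (hm : (m : k) ≠ 0) (M : Type) [AddCommGroup M] [Finite M] (hM : ∀ x : M, m • x = 0)
  (G : Over (Spec (CommRingCat.of k))) [GrpObj G] [Smooth G.hom] [QuasiCompact G.hom] [ConnectedSpace G.left]

include hm hM in
theorem exists_kill (r : ℕ) : ∀ t, 1 ≤ t → t ≤ r →
    ∃ N : ℕ, ∀ x : HH G.left (EtCoh.const G.left M) t, hc M (pw G (m ^ N)) t x = 0 := by
  have hconn := Fdesc.GeomAlgClosed.geometricallyConnected_of_connectedSpace G.hom
  have hfst : GeometricallyConnected (fst G G).left :=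
    MorphismProperty.of_isPullback (isPullback_tensor G G) hconn
  have hopen : UniversallyOpen (fst G G).left :=
    MorphismProperty.of_isPullback (P := @UniversallyOpen) (isPullback_tensor G G) inferInstance
  have hN : IsLocallyNoetherian G.left := LocallyOfFiniteType.isLocallyNoetherian G.hom
  have hfin : ∀ t, Finite (HH G.left (EtCoh.const G.left M) t) := fun t =>
    K833.FieldRpush.finite_H hm G.hom _ (Etrest.ConstBasic.isConstructible_const G.left M)
      (Etrest.ConstBasic.killedBy_const G.left M m hM) t
  induction r with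
  | zero => intro t h1 h2; omega
  | succ r ih =>
    intro t h1 h2
    rcases Nat.lt_or_ge t (r + 1) with h3 | h3
    · exact ih t h1 (by omega)
    obtain rfl : t = r + 1 := by omega
    refine exists_uniform M (r + 1) fun x => kill_of_special M hM (r + 1) h1 x fun z hz => ?_
    obtain ⟨j, -, w, hw⟩ := K833.EffMain.special M (fun _ => (G ⊗ G).left) (fun _ => (fst G G).left)
      (fun {i j} _ => (tr G m i j).left) (fun {i j} _ => tr_fst G m i j)
      (fun {i j l} h h' => tr_tr G m i j l h h') (fun _ => K833.EffUnit.isIso_unit _ M) r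
      (fun t ht1 ht2 i => by
        obtain ⟨N, hN⟩ := ih t ht1 ht2
        refine ⟨i + N, Nat.le_add_right i N, ?_⟩
        refine K833.EffProd.of_prod hm M hM G.hom G.hom (pw G (m ^ N)).left _ _ _ _ (𝟙 G.left)
          IsPullback.of_id_fst IsPullback.of_id_fst (y := (snd G G).left) (by
            rw [Category.id_comp]
            exact isPullback_tensor G G) (y' := (snd G G).left) _ (by
            rw [Category.comp_id, Category.id_comp]) (tr_fst G m i (i + N)) ?_ t
          (AddMonoidHom.ext hN)
        rw [tr_snd, Nat.add_sub_cancel_left]) 0 z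
      (K833.EffFib.of_fibre hm G.hom (fst G G).left G.hom η[G].left (Over.w _)
        (isPullback_tensor G G) M hM (r + 1) z (lift (1 : G ⟶ G) (𝟙 G)).left
        (by
          rw [← Over.comp_left, lift_snd]
          rfl)
        (by
          rw [← Over.comp_left, lift_fst]
          rfl) hz)
    exact ⟨j, w, hw⟩

include hm hM in
/-- **P3**: a power of `m` kills the positive cohomology of a connected group variety. -/
theorem main (r : ℕ) (hr : 1 ≤ r) :
    ∃ N : ℕ, ∀ x : HH G.left (EtCoh.const G.left M) r, HC M ((𝟙 G : G ⟶ G) ^ (m ^ N)).left r x = 0 :=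
  exists_kill hm M hM G r r hr le_rfl

end K98.KillMain
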