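import Groth.Agent.Lefpen.H712.TwoColEt
import Groth.Agent.EtAdic.K833.FieldRpush
import Groth.Agent.EtAdic.K833.Homotopy
import Groth.Agent.Sga4h.H564.Cons
import Groth.Agent.Sga5.H650.ConstCount
import Groth.Agent.Sga7.H274.FieldPts
import Groth.Agent.S3103
import Groth.Agent.S0204
import Groth.Agent.S14625

/-!
# The cohomology of `X × 𝔾_m` over an algebraically closed field

* `nonempty_H1_mu`: `H^1(Spec k[x, x⁻¹], μ_n) ≅ ℤ/n`;
* `IsGmLike`: a scheme `T` over `k` with the cohomology of `𝔾_m` for finite constant coefficients;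
* `card_succ`, `card_zero`: `#H^(n+1)(F × T, L) = #H^n(F, L) · #H^(n+1)(F, L)` for such `T`.
-/

set_option autoImplicit false
universe u

open CategoryTheory CategoryTheory.Limits AlgebraicGeometry Opposite Polynomial

namespace K98.GmH1

open Groth.Agent Groth.Agent.Sga4B

section kummer

variable (k : Type u) [Field k] [IsAlgClosed k] (B : Type u) [CommRing B] [Algebra k[X] B]
  [IsLocalization.Away (X : k[X]) B]

theorem nonempty_H1_mu (n : ℕ) (hn : (n : k) ≠ 0) :
    Nonempty (EtCoh.H (Spec (CommRingCat.of B)) (EtCoh.mu (Spec (CommRingCat.of B)) n) 1 ≃+ ZMod n) := by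
  have hn0 : n ≠ 0 := by
    rintro rfl
    exact hn (by simp)
  have hX : Prime (X : k[X]) := Polynomial.prime_X
  have hdB : IsDomain B := IsLocalization.Away.isDomain B hX.ne_zero
  have hufdB : UniqueFactorizationMonoid B :=
    UniqueFactorizationMonoid.of_isLocalization (Submonoid.powers (X : k[X])) B
  have hG := S3103.subsingleton_H1_Gm B
  let e : B ≃+* Γ(Spec (CommRingCat.of B), ⊤) :=
    (Scheme.ΓSpecIso (CommRingCat.of B)).symm.commRingCatIsoToRingEquiv
  have hnB : IsUnit (n : B) := by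
    have h1 : IsUnit (n : k) := IsUnit.mk0 _ hn
    have h2 := h1.map ((algebraMap k[X] B).comp (C : k →+* k[X]))
    rwa [map_natCast] at h2
  have hepi : Epi (EtCoh.powMap (Spec (CommRingCat.of B)) n) := by
    apply S0108.result
    have h1 := hnB.map e
    rwa [map_natCast] at h1
  let E : Bˣ ≃* (Γ(Spec (CommRingCat.of B), ⊤))ˣ := Units.mapEquiv e.toMulEquiv
  have hroot : ∀ a : k[X]ˣ, ∃ b : k[X]ˣ, a = b ^ n := fun a => by
    obtain ⟨r, hr, hra⟩ := Polynomial.isUnit_iff.1 a.isUnit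
    obtain ⟨z, hz⟩ := IsAlgClosed.exists_pow_nat_eq r (Nat.pos_of_ne_zero hn0)
    have hz0 : z ≠ 0 := by
      rintro rfl
      rw [zero_pow hn0] at hz
      exact hr.ne_zero hz.symm
    refine ⟨Units.map (C : k →+* k[X]) (Units.mk0 z hz0), Units.ext ?_⟩
    change (a : k[X]) = (C z) ^ n
    rw [← hra, ← hz, map_pow]
  refine KummerH1.nonempty_H1_mu_equiv_zmod _ n hepi hG (E (UnitsAway.xUnit (X : k[X]) B)) ?_ ?_
  · intro u
    obtain ⟨u, rfl⟩ := E.surjective u
    obtain ⟨l, a, rfl⟩ := UnitsAway.exists_eq_zpow_mul hX u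
    obtain ⟨b, rfl⟩ := hroot a
    exact ⟨l, E (Units.map (algebraMap k[X] B) b), by simp only [map_mul, map_zpow, map_pow]⟩
  · rintro l ⟨y, hy⟩
    obtain ⟨y, rfl⟩ := E.surjective y
    obtain ⟨m, a, rfl⟩ := UnitsAway.exists_eq_zpow_mul hX y
    have h1 : (UnitsAway.xUnit (X : k[X]) B) ^ l =
        ((UnitsAway.xUnit (X : k[X]) B) ^ m * Units.map (algebraMap k[X] B) a) ^ n := by
      apply E.injective
      rw [map_zpow, hy, map_pow]
    have h2 : (UnitsAway.xUnit (X : k[X]) B) ^ (l - m * n) = Units.map (algebraMap k[X] B) (a ^ n) := by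
      rw [zpow_sub, h1, mul_pow, map_pow, zpow_mul, zpow_natCast]
      exact mul_inv_cancel_comm _ _
    have h3 := UnitsAway.eq_zero_of_zpow_eq hX h2
    exact ⟨m, by rw [mul_comm]; omega⟩

/-- the structure morphism -/
noncomputable abbrev str : Spec (CommRingCat.of B) ⟶ Spec (CommRingCat.of k) :=
  Spec.map (CommRingCat.ofHom ((algebraMap k[X] B).comp (C : k →+* k[X])))

theorem card_H1_zmod (n : ℕ) (hn : (n : k) ≠ 0) :
    Nat.card (EtCoh.H (Spec (CommRingCat.of B)) (EtCoh.const (Spec (CommRingCat.of B)) (ZMod n)) 1) = n := by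
  have hn0 : n ≠ 0 := by
    rintro rfl
    exact hn (by simp)
  have hk : EtCoh.IsStrictlyHenselianLocalRing k := Sga7.H274.FieldPts.isStrictlyHenselianLocalRing_field k
  obtain ⟨e⟩ := S14625.result k hk n (Nat.pos_of_ne_zero hn0) (IsUnit.mk0 _ hn) _ (str k B)
  obtain ⟨f⟩ := nonempty_H1_mu k B n hn
  rw [← Groth.Agent.Lefpen.H712.TwoColEt.card_H_congr e 1, Nat.card_congr f.toEquiv, Nat.card_zmod]

/-- finite constant coefficients -/
theorem card_H1 (m : ℕ) (hm : (m : k) ≠ 0) (M : Type) [AddCommGroup M] [Finite M] (hM : ∀ x : M, m • x = 0) :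
    Nat.card (EtCoh.H (Spec (CommRingCat.of B)) (EtCoh.const (Spec (CommRingCat.of B)) M) 1) = Nat.card M := by
  have hm0 : 1 ≤ m := Nat.one_le_iff_ne_zero.2 (by
    rintro rfl
    exact hm (by simp))
  rw [Sga5.H650.ConstCount.card_H_const_of_cyclic _ 1 m 1 hm0 ?_ M hM, pow_one]
  rintro n - ⟨l, rfl⟩
  rw [card_H1_zmod k B n (fun h => hm (by rw [Nat.cast_mul, h, zero_mul])), pow_one]

end kummer

/-- a scheme over a field in whose cohomology with finite constant coefficients looks like that of `𝔾_m` -/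
structure IsGmLike (m : ℕ) (T : Scheme.{u}) : Prop where
  conn : ConnectedSpace T
  one : ∀ (M : Type) [AddCommGroup M] [Finite M], (∀ x : M, m • x = 0) →
    Nat.card (EtCoh.H T (EtCoh.const T M) 1) = Nat.card M
  two : ∀ (M : Type) [AddCommGroup M] [Finite M], (∀ x : M, m • x = 0) → ∀ q, 2 ≤ q →
    Subsingleton (EtCoh.H T (EtCoh.const T M) q)

section gen

variable {k : Type u} [Field k] [IsSepClosed k] {m : ℕ} (hm : (m : k) ≠ 0) {F T P : Scheme.{u}}
  (q : F ⟶ Spec (CommRingCat.of k)) [LocallyOfFiniteType q] [QuasiCompact q] {t : T ⟶ Spec (CommRingCat.of k)}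
  {g' : P ⟶ F} {p : P ⟶ T} (h : IsPullback g' p q t) (hT : IsGmLike m T)
  (L : Type) [AddCommGroup L] [Finite L] (hL : ∀ x : L, m • x = 0)

include hm h hL q in
theorem exists_R (r : ℕ) : ∃ (M : Type) (_ : AddCommGroup M) (_ : Finite M), (∀ x : M, m • x = 0) ∧
    Nat.card M = Nat.card (EtCoh.H F (EtCoh.const F L) r) ∧
    Nonempty (EtCoh.const T M ≅ (EtCoh.Rpush p r).obj (EtCoh.const P L)) := by
  obtain ⟨M, i1, i2, h1, ⟨h2⟩, h3⟩ := K833.FieldRpush.exists_const hm q (EtCoh.const F L)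
    (Etrest.ConstBasic.isConstructible_const F L) (Etrest.ConstBasic.killedBy_const _ L m hL) r
  obtain ⟨e⟩ := h3 h
  exact ⟨M, i1, i2, h1, Nat.card_congr h2, ⟨e ≪≫ (EtCoh.Rpush p r).mapIso (EtCore.pullConst g' L)⟩⟩

include hm h hT hL q

theorem card_succ (n : ℕ) : Nat.card (EtCoh.H P (EtCoh.const P L) (n + 1)) =
    Nat.card (EtCoh.H F (EtCoh.const F L) n) * Nat.card (EtCoh.H F (EtCoh.const F L) (n + 1)) := by
  obtain ⟨M, i1, i2, hM, hc, ⟨e⟩⟩ := exists_R hm q h L hL n
  obtain ⟨M', i1', i2', hM', hc', ⟨e'⟩⟩ := exists_R hm q h L hL (n + 1)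
  have := hT.conn
  rw [Lefpen.H712.TwoColEt.card_H_succ p (EtCoh.const P L) n, ← hc, ← hc',
    ← Lefpen.H712.TwoColEt.card_H_congr e 1, ← Lefpen.H712.TwoColEt.card_H_congr e' 0, hT.one M hM,
    Sga5.H650.ConstCount.card_H0_const]
  intro a b hab
  obtain ⟨M, i1, i2, hM, hc, ⟨e⟩⟩ := exists_R hm q h L hL b
  have h1 : Subsingleton ((EtCoh.HF T a).obj (EtCoh.const T M) : AddCommGrpCat.{u + 1}) := hT.two M hM a hab
  exact ((EtCoh.HF T a).mapIso e).addCommGroupIsoToAddEquiv.symm.injective.subsingleton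

theorem card_zero : Nat.card (EtCoh.H P (EtCoh.const P L) 0) = Nat.card (EtCoh.H F (EtCoh.const F L) 0) := by
  obtain ⟨M, i1, i2, hM, hc, ⟨e⟩⟩ := exists_R hm q h L hL 0
  have := hT.conn
  rw [Lefpen.H712.TwoColEt.card_H_zero p (EtCoh.const P L), ← hc, ← Lefpen.H712.TwoColEt.card_H_congr e 0,
    Sga5.H650.ConstCount.card_H0_const]

end gen

section gm

variable (k : Type u) [Field k] [IsAlgClosed k] (B : Type u) [CommRing B] [Algebra k[X] B]
  [IsLocalization.Away (X : k[X]) B]

theorem isGmLike_spec (m : ℕ) (hm : (m : k) ≠ 0) : IsGmLike m (Spec (CommRingCat.of B)) where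
  conn := by
    have hdB : IsDomain B := IsLocalization.Away.isDomain B (Polynomial.prime_X (R := k)).ne_zero
    infer_instance
  one M _ _ hM := card_H1 k B m hm M hM
  two M _ _ hM q hq := by
    have h1 : Algebra.FiniteType k[X] B := IsLocalization.finiteType_of_monoid_fg (Submonoid.powers (X : k[X])) B
    have h2 : LocallyOfFiniteType (str k B) := by
      rw [HasRingHomProperty.Spec_iff (P := @LocallyOfFiniteType)]
      have h4 : (algebraMap k[X] B).FiniteType := RingHom.finiteType_algebraMap.2 h1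
      have h5 : (C : k →+* k[X]).FiniteType := RingHom.finiteType_algebraMap.2 (inferInstanceAs (Algebra.FiniteType k k[X]))
      exact h4.comp h5
    have h3 : topologicalKrullDim (Spec (CommRingCat.of B)) ≤ 1 := by
      have h4 : topologicalKrullDim (Spec (CommRingCat.of B)) = ringKrullDim B :=
        PrimeSpectrum.topologicalKrullDim_eq_ringKrullDim B
      rw [h4]
      have h5 : ringKrullDim B ≤ ringKrullDim k[X] := by
        refine Order.krullDim_le_of_strictMono (PrimeSpectrum.comap (algebraMap k[X] B)) ?_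
        refine Monotone.strictMono_of_injective (fun a b hab => Ideal.comap_mono hab) ?_
        exact PrimeSpectrum.localization_comap_injective B (Submonoid.powers (X : k[X]))
      refine h5.trans ?_
      rw [Polynomial.ringKrullDim_of_isNoetherianRing, ringKrullDim_eq_zero_of_field, zero_add]
    exact S0204.result k _ (str k B) h3 _ (Sga4h.H564.Cons.isTorsion_const M _) q hq

end gm

end K98.GmH1
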