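import Groth.Agent.EtAdic.K833.TransTriv
import Groth.Agent.Etrest.ConstBasic
import Groth.Agent.Sga7.H274.FieldPts
import Groth.Agent.S0073
import Groth.Agent.Sga4h.NcTransferA

/-!
# Powers of `m` kill the positive cohomology of a connected group

`G` a group scheme over a separably closed field, `M` a finite group killed by `m`.

* `hc`: pull back of classes with constant coefficients along a morphism over the field;
* `kill_of_special`: if classes on `G × G` which vanish on `e × G` come from the first factor after pull back by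
  `1 × [m^j]` (for some `j` depending on the class), then `[m^N]` kills every class of positive degree on `G`.
-/

set_option autoImplicit false
universe u

open CategoryTheory Limits MonoidalCategory CartesianMonoidalCategory MonObj GrpObj AlgebraicGeometry
open scoped Groth.Agent.Etcore.EtInst

namespace K98.Kill

open Groth.Agent Groth.Agent.Etcore.EtInst Groth.Agent.Etcore.HpullCalc Groth.Agent.Etcore.HC

variable {K : Type u} [Field K] (M : Type) [AddCommGroup M]

section hc

variable {A B C : Over (Spec (CommRingCat.of K))}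

/-- pull back along a morphism over the base field -/
noncomputable def hc (f : A ⟶ B) (n : ℕ) :
    HH B.left (EtCoh.const B.left M) n →+ HH A.left (EtCoh.const A.left M) n := HC M f.left n

theorem hc_comp (f : A ⟶ B) (g : B ⟶ C) (n : ℕ) (x : HH C.left (EtCoh.const C.left M) n) :
    hc M (f ≫ g) n x = hc M f n (hc M g n x) := HC_comp M f.left g.left n x

theorem hc_id (n : ℕ) (x : HH A.left (EtCoh.const A.left M) n) : hc M (𝟙 A) n x = x := HC_id M n x

/-- a class of positive degree dies on a constant morphism -/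
theorem hc_toUnit [IsSepClosed K] (a : 𝟙_ (Over (Spec (CommRingCat.of K))) ⟶ B) (n : ℕ) (hn : 1 ≤ n)
    (x : HH B.left (EtCoh.const B.left M) n) : hc M (toUnit A ≫ a) n x = 0 := by
  obtain ⟨h1, h2⟩ := Sga7.H274.FieldPts.isStrictlyHenselianLocalRing_field K
  have h3 : Subsingleton (HH (𝟙_ (Over (Spec (CommRingCat.of K)))).left
      (EtCoh.const (𝟙_ (Over (Spec (CommRingCat.of K)))).left M) n) :=
    S0073.result K (EtCoh.const (Spec (CommRingCat.of K)) M) n hn
  rw [hc_comp, h3.elim (hc M a n x) 0, map_zero]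

theorem hc_one [IsSepClosed K] [GrpObj B] (n : ℕ) (hn : 1 ≤ n)
    (x : HH B.left (EtCoh.const B.left M) n) : hc M (1 : A ⟶ B) n x = 0 := hc_toUnit M η n hn x

theorem nsmul_HH_eq_zero {m : ℕ} (hM : ∀ x : M, m • x = 0) (X : Scheme.{u}) (n : ℕ)
    (x : HH X (EtCoh.const X M) n) : m • x = 0 := by
  exact Sga4h.NcTransfer.nsmul_eq_zero m _ (Etrest.ConstBasic.killedBy_const X M m hM) n x

end hc

section mul

variable [IsSepClosed K] {G : Over (Spec (CommRingCat.of K))} [GrpObj G]

/-- the defect of additivity -/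
noncomputable def defect (n : ℕ) (x : HH G.left (EtCoh.const G.left M) n) :
    HH (G ⊗ G).left (EtCoh.const (G ⊗ G).left M) n :=
  hc M μ[G] n x - hc M (fst G G) n x - hc M (snd G G) n x

omit [IsSepClosed K] in
theorem hc_defect {T : Over (Spec (CommRingCat.of K))} (a b : T ⟶ G) (n : ℕ)
    (x : HH G.left (EtCoh.const G.left M) n) :
    hc M (lift a b) n (defect M n x) = hc M (a * b) n x - hc M a n x - hc M b n x := by
  rw [defect, map_sub, map_sub, ← hc_comp, ← hc_comp, ← hc_comp, lift_fst, lift_snd]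
  rfl

theorem hc_defect_left (n : ℕ) (hn : 1 ≤ n) (x : HH G.left (EtCoh.const G.left M) n) :
    hc M (lift (1 : G ⟶ G) (𝟙 G)) n (defect M n x) = 0 := by
  rw [hc_defect, _root_.one_mul, hc_one M n hn, sub_zero, sub_self]

theorem hc_defect_right (n : ℕ) (hn : 1 ≤ n) (x : HH G.left (EtCoh.const G.left M) n) :
    hc M (lift (𝟙 G) (1 : G ⟶ G)) n (defect M n x) = 0 := by
  rw [hc_defect, _root_.mul_one, hc_one M n hn, sub_zero, sub_self]

/-- the `n`-th power map -/
noncomputable abbrev pw (G : Over (Spec (CommRingCat.of K))) [GrpObj G] (n : ℕ) : G ⟶ G := (𝟙 G) ^ n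

omit [IsSepClosed K] in
theorem comp_pw {T : Over (Spec (CommRingCat.of K))} (a : T ⟶ G) (n : ℕ) : a ≫ pw G n = a ^ n := by
  rw [pw, MonObj.comp_pow, Category.comp_id]

theorem add_of_special {q : ℕ} (n : ℕ) (hn : 1 ≤ n) (x : HH G.left (EtCoh.const G.left M) n)
    (w : HH G.left (EtCoh.const G.left M) n)
    (h : hc M (G ◁ pw G q) n (defect M n x) = hc M (fst G G) n w) {T : Over (Spec (CommRingCat.of K))}
    (a b : T ⟶ G) : hc M (a * b ^ q) n x = hc M a n x + hc M (b ^ q) n x := by
  have h1 : lift (𝟙 G) (1 : G ⟶ G) ≫ (G ◁ pw G q) = lift (𝟙 G) 1 := by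
    rw [lift_whiskerLeft, comp_pw, one_pow]
  have h2 : w = 0 := by
    have h3 := congrArg (hc M (lift (𝟙 G) (1 : G ⟶ G)) n) h
    rw [← hc_comp, ← hc_comp, h1, lift_fst, hc_id, hc_defect_right M n hn] at h3
    exact h3.symm
  rw [h2, map_zero] at h
  have h3 := congrArg (hc M (lift a b) n) h
  rw [← hc_comp, lift_whiskerLeft, comp_pw, hc_defect, map_zero] at h3
  rw [← sub_eq_zero, ← h3]
  abel

theorem nsmul_of_special {q : ℕ} (n : ℕ) (hn : 1 ≤ n) (x : HH G.left (EtCoh.const G.left M) n)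
    (w : HH G.left (EtCoh.const G.left M) n)
    (h : hc M (G ◁ pw G q) n (defect M n x) = hc M (fst G G) n w) (k : ℕ) :
    hc M (pw G (q * k)) n x = k • hc M (pw G q) n x := by
  induction k with
  | zero => rw [Nat.mul_zero, pw, _root_.pow_zero, hc_one M n hn, zero_smul]
  | succ k ih =>
    have h1 : pw G (q * (k + 1)) = pw G (q * k) * (𝟙 G) ^ q := by
      rw [pw, Nat.mul_succ, pow_add]
    rw [h1, add_of_special M n hn x w h, ih, succ_nsmul]

theorem kill_of_special {m : ℕ} (hM : ∀ x : M, m • x = 0) (n : ℕ) (hn : 1 ≤ n)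
    (x : HH G.left (EtCoh.const G.left M) n)
    (hsp : ∀ z : HH (G ⊗ G).left (EtCoh.const (G ⊗ G).left M) n, hc M (lift (1 : G ⟶ G) (𝟙 G)) n z = 0 →
      ∃ (j : ℕ) (w : HH G.left (EtCoh.const G.left M) n),
        hc M (G ◁ pw G (m ^ j)) n z = hc M (fst G G) n w) :
    ∃ N : ℕ, hc M (pw G (m ^ N)) n x = 0 := by
  obtain ⟨j, w, h⟩ := hsp _ (hc_defect_left M n hn x)
  refine ⟨j + 1, ?_⟩
  rw [_root_.pow_succ, nsmul_of_special M n hn x w h, nsmul_HH_eq_zero M hM]

omit [IsSepClosed K] in
theorem kill_mono {m : ℕ} (n : ℕ) (x : HH G.left (EtCoh.const G.left M) n) {i j : ℕ} (hij : i ≤ j)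
    (h : hc M (pw G (m ^ i)) n x = 0) : hc M (pw G (m ^ j)) n x = 0 := by
  obtain ⟨l, rfl⟩ := Nat.exists_eq_add_of_le' hij
  have h1 : pw G (m ^ (l + i)) = pw G (m ^ l) ≫ pw G (m ^ i) := by
    rw [comp_pw, pw, pw, ← pow_mul, ← pow_add]
  rw [h1, hc_comp, h, map_zero]

omit [IsSepClosed K] in
theorem exists_uniform {m : ℕ} (n : ℕ) [Finite (HH G.left (EtCoh.const G.left M) n)]
    (h : ∀ x : HH G.left (EtCoh.const G.left M) n, ∃ N : ℕ, hc M (pw G (m ^ N)) n x = 0) :
    ∃ N : ℕ, ∀ x : HH G.left (EtCoh.const G.left M) n, hc M (pw G (m ^ N)) n x = 0 := by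
  choose N hN using h
  obtain ⟨B, hB⟩ := (Set.finite_range N).bddAbove
  exact ⟨B, fun x => kill_mono M n x (hB ⟨x, rfl⟩) (hN x)⟩

end mul

end K98.Kill
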